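import Groth.Agent.Lib.BE1.Minors
import Groth.Agent.Lib.Depth.More
import Mathlib.RingTheory.Regular.RegularSequence
import Mathlib.RingTheory.Localization.AtPrime.Basic
import Mathlib.RingTheory.Localization.Integer

/-!
The Buchsbaum–Eisenbud exactness criterion over a Noetherian ring.
-/

set_option autoImplicit false
set_option linter.style.haveILetI false

universe u

open scoped Matrix Pointwise
open RingTheory.Sequence

namespace Groth.Agent.BE1

section

variable {R : Type u} [CommRing R] {n : ℕ → ℕ}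

/-- The boundaries at spot `j` of the truncated complex `0 → R^(n e) → ⋯ → R^(n 0)`. -/
noncomputable def bd (e : ℕ) (A : ∀ i, Matrix (Fin (n i)) (Fin (n (i + 1))) R) (j : ℕ) :
    Submodule R (Fin (n (j + 1)) → R) :=
  if j + 1 < e then LinearMap.range (A (j + 1)).mulVecLin else ⊥

/-- Exactness of the truncated complex away from spot `0`. -/
def Ex (e : ℕ) (A : ∀ i, Matrix (Fin (n i)) (Fin (n (i + 1))) R) : Prop :=
  ∀ j < e, ∀ v, A j *ᵥ v = 0 → v ∈ bd e A j

/-- Rank recursion. -/
def Rec (e : ℕ) (n ρ : ℕ → ℕ) : Prop := ρ e = 0 ∧ ∀ j < e, ρ j + ρ (j + 1) = n (j + 1)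

def IsCx (e : ℕ) (A : ∀ i, Matrix (Fin (n i)) (Fin (n (i + 1))) R) : Prop :=
  ∀ i, i + 2 ≤ e → A i * A (i + 1) = 0

theorem Rec.eq {e : ℕ} {ρ σ : ℕ → ℕ} (h : Rec e n ρ) (h' : Rec e n σ) : ∀ j ≤ e, ρ j = σ j := by
  intro j hj
  refine Nat.decreasingInduction' (P := fun j => ρ j = σ j) (fun i hi _ ih => ?_) hj (h.1.trans h'.1.symm)
  have := h.2 i hi
  have := h'.2 i hi
  omega

theorem Rec.shift {e : ℕ} {ρ : ℕ → ℕ} (h : Rec (e + 1) n ρ) : Rec e (fun i => n (i + 1)) (fun i => ρ (i + 1)) :=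
  ⟨h.1, fun j hj => h.2 (j + 1) (by omega)⟩

theorem mulVec_eq_zero_of_cx {e : ℕ} {A : ∀ i, Matrix (Fin (n i)) (Fin (n (i + 1))) R} (hA : IsCx e A) {j : ℕ}
    {v : Fin (n (j + 1)) → R} (hv : v ∈ bd e A j) : A j *ᵥ v = 0 := by
  rw [bd] at hv
  split_ifs at hv with h
  · obtain ⟨w, rfl⟩ := hv
    rw [Matrix.mulVecLin_apply, Matrix.mulVec_mulVec, hA j (by omega), Matrix.zero_mulVec]
  · rw [Submodule.mem_bot] at hv
    rw [hv, Matrix.mulVec_zero]

theorem map_mulVec {S : Type u} [CommRing S] (φ : R →+* S) {a b : ℕ} (M : Matrix (Fin a) (Fin b) R)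
    (v : Fin b → R) : M.map φ *ᵥ (φ ∘ v) = φ ∘ (M *ᵥ v) :=
  funext fun i => (RingHom.map_mulVec φ M v i).symm

theorem pow_smul_mem_bd {e : ℕ} {A : ∀ i, Matrix (Fin (n i)) (Fin (n (i + 1))) R} (hA : IsCx e A) {ρ : ℕ → ℕ}
    (hρ : Rec e n ρ) {x : R} (hx : ∀ j < e, x ∈ CAlgX.minorIdeal (A j) (ρ j)) {j : ℕ} (hj : j < e)
    (v : Fin (n (j + 1)) → R) (hv : A j *ᵥ v = 0) : ∃ k : ℕ, x ^ k • v ∈ bd e A j := by
  by_cases h : j + 1 < e
  · obtain ⟨k, hk⟩ := exists_pow_smul_mem_range (hρ.2 j hj) (A j) (A (j + 1)) (hA j (by omega)) (hx j hj)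
      (hx (j + 1) h) v hv
    exact ⟨k, by rw [bd, if_pos h]; exact hk⟩
  · have e0 : ρ j + 0 = n (j + 1) := by
      have := hρ.2 j hj
      rw [show j + 1 = e by omega, hρ.1] at this
      rwa [show j + 1 = e by omega]
    obtain ⟨k, hk⟩ := exists_pow_smul_mem_range e0 (A j) (0 : Matrix (Fin (n (j + 1))) (Fin 0) R) (Matrix.mul_zero _)
      (hx j hj) (by rw [McCoy3.minorIdeal_zero]; trivial) v hv
    rw [Matrix.mulVecLin_zero, LinearMap.range_zero] at hk
    exact ⟨k, by rw [bd, if_neg h]; exact hk⟩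

theorem isWeaklyRegular_quot_iff (x : R) (rs : List R) :
    IsWeaklyRegular (QuotSMulTop x R) rs ↔
      IsWeaklyRegular (R ⧸ Ideal.span {x}) (rs.map (Ideal.Quotient.mk (Ideal.span {x}))) := by
  have e : (x • (⊤ : Submodule R R)) = Ideal.span {x} := by
    rw [← Submodule.ideal_span_singleton_smul, smul_eq_mul, Ideal.mul_top]
  rw [(Submodule.quotEquivOfEq _ _ e).isWeaklyRegular_congr rs,
    ← Ideal.Quotient.algebraMap_eq (Ideal.span {x}), isWeaklyRegular_map_algebraMap_iff]

theorem eq_top_of_map_eq_top {x : R} {J : Ideal R} (hx : x ∈ J)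
    (h : J.map (Ideal.Quotient.mk (Ideal.span {x})) = ⊤) : J = ⊤ := by
  have := congrArg (Ideal.comap (Ideal.Quotient.mk (Ideal.span {x}))) h
  rw [Ideal.comap_map_of_surjective _ Ideal.Quotient.mk_surjective, Ideal.comap_top, ← RingHom.ker_eq_comap_bot,
    Ideal.mk_ker, sup_of_le_left ((Ideal.span_singleton_le_iff_mem _).mpr hx)] at this
  exact this

theorem exists_seq_quot [IsNoetherianRing R] {J : Ideal R} (hJ : J ≠ ⊤) {x : R} (hx : x ∈ J)
    (hreg : IsSMulRegular R x) {k : ℕ} {rs : List R} (hlen : rs.length = k + 1) (hmem : ∀ r ∈ rs, r ∈ J)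
    (hrs : IsWeaklyRegular R rs) :
    ∃ rs' : List (R ⧸ Ideal.span {x}), rs'.length = k ∧
      (∀ r ∈ rs', r ∈ J.map (Ideal.Quotient.mk (Ideal.span {x}))) ∧ IsWeaklyRegular (R ⧸ Ideal.span {x}) rs' := by
  have h1 : ((k + 1 : ℕ) : ℕ∞) ≤ LocCoh.idealDepth J R := hlen ▸ DepthLib.length_le_idealDepth hrs hmem
  rw [← DepthLib.natCast_le_idealDepth_quotSMulTop_iff hx hreg] at h1
  obtain ⟨ts, ht, htm, htl⟩ := DepthLib.exists_isWeaklyRegular_of_le_idealDepth (M := QuotSMulTop x R) (fun h => by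
    have h2 : J • (⊤ : Submodule R R) = ⊤ := by
      have := congrArg (Submodule.comap (Submodule.mkQ (x • ⊤ : Submodule R R))) h
      rwa [Submodule.comap_smul_top_of_surjective J _ (Submodule.mkQ_surjective _), Submodule.ker_mkQ,
        Submodule.comap_top, ← Submodule.ideal_span_singleton_smul,
        sup_of_le_left (Submodule.smul_mono_left ((Ideal.span_singleton_le_iff_mem _).mpr hx))] at this
    rw [smul_eq_mul, Ideal.mul_top] at h2
    exact hJ h2) h1
  refine ⟨ts.map (Ideal.Quotient.mk _), by simpa using htl, fun r hr => ?_, (isWeaklyRegular_quot_iff x ts).mp ht⟩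
  obtain ⟨t, ht', rfl⟩ := List.mem_map.mp hr
  exact Ideal.mem_map_of_mem _ (htm t ht')

end

/-- The condition on depths. -/
def DepthCond {R : Type u} [CommRing R] (e : ℕ) {n : ℕ → ℕ} (A : ∀ i, Matrix (Fin (n i)) (Fin (n (i + 1))) R)
    (ρ : ℕ → ℕ) : Prop :=
  ∀ j < e, CAlgX.minorIdeal (A j) (ρ j) = ⊤ ∨ ∃ rs : List R, rs.length = j + 1 ∧
    (∀ r ∈ rs, r ∈ CAlgX.minorIdeal (A j) (ρ j)) ∧ IsWeaklyRegular R rs

theorem ex_of_depthCond : ∀ (e : ℕ) (R : Type u) [CommRing R] [IsNoetherianRing R] (n ρ : ℕ → ℕ)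
    (A : ∀ i, Matrix (Fin (n i)) (Fin (n (i + 1))) R), IsCx e A → Rec e n ρ → DepthCond e A ρ → Ex e A := by
  intro e
  induction e with
  | zero => exact fun R _ _ n ρ A _ _ _ j hj => absurd hj (Nat.not_lt_zero j)
  | succ e ih =>
    intro R _ _ n ρ A hA hρ hC
    classical
    have hnzd : ∀ j, ∃ a, IsSMulRegular R a ∧ (j < e + 1 → a ∈ CAlgX.minorIdeal (A j) (ρ j)) := by
      intro j
      by_cases hj : j < e + 1
      swap
      · exact ⟨1, IsSMulRegular.one R, fun h => absurd h hj⟩
      obtain h | ⟨rs, hl, hm, hr⟩ := hC j hj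
      · exact ⟨1, IsSMulRegular.one R, fun _ => h ▸ Submodule.mem_top⟩
      · obtain ⟨a, rs, rfl⟩ : ∃ a rs', rs = a :: rs' := by
          cases rs with
          | nil => simp at hl
          | cons a rs => exact ⟨a, rs, rfl⟩
        exact ⟨a, ((isWeaklyRegular_cons_iff R a rs).mp hr).1, fun _ => hm a List.mem_cons_self⟩
    choose a ha hma using hnzd
    let x := ∏ j ∈ Finset.range (e + 1), a j
    have hx : ∀ j < e + 1, x ∈ CAlgX.minorIdeal (A j) (ρ j) := fun j hj =>
      Ideal.mem_of_dvd _ (Finset.dvd_prod_of_mem a (Finset.mem_range.mpr hj)) (hma j hj)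
    have hxreg : IsSMulRegular R x :=
      Finset.prod_induction a (IsSMulRegular R) (fun _ _ => IsSMulRegular.mul) (IsSMulRegular.one R) fun j _ => ha j
    set q := Ideal.Quotient.mk (Ideal.span {x}) with hq
    let A' : ∀ i, Matrix (Fin (n (i + 1))) (Fin (n (i + 1 + 1))) (R ⧸ Ideal.span {x}) := fun i => (A (i + 1)).map q
    have hA' : IsCx (n := fun i => n (i + 1)) e A' := fun i hi => by
      show (A (i + 1)).map q * (A (i + 1 + 1)).map q = 0
      rw [← Matrix.map_mul, hA (i + 1) (by omega), Matrix.map_zero _ (map_zero _)]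
    have hC' : DepthCond (n := fun i => n (i + 1)) e A' (fun i => ρ (i + 1)) := by
      intro j hj
      show CAlgX.minorIdeal ((A (j + 1)).map q) (ρ (j + 1)) = ⊤ ∨ _
      rw [minorIdeal_map]
      obtain h | ⟨rs, hl, hm, hr⟩ := hC (j + 1) (by omega)
      · exact Or.inl (by rw [h, Ideal.map_top])
      by_cases hJ : CAlgX.minorIdeal (A (j + 1)) (ρ (j + 1)) = ⊤
      · exact Or.inl (by rw [hJ, Ideal.map_top])
      obtain ⟨ts, h1, h2, h3⟩ := exists_seq_quot hJ (hx (j + 1) (by omega)) hxreg hl hm hr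
      exact Or.inr ⟨ts, h1, h2, h3⟩
    have hex := ih (R ⧸ Ideal.span {x}) (fun i => n (i + 1)) (fun i => ρ (i + 1)) A' hA' hρ.shift hC'
    intro j hj v hv
    obtain ⟨k, hk⟩ := pow_smul_mem_bd hA hρ hx hj v hv
    clear hv
    induction k with
    | zero => simpa using hk
    | succ k ihk =>
      refine ihk ?_
      have hcancel : ∀ {a b : Fin (n (j + 1)) → R}, x • a = x • b → a = b := fun h =>
        funext fun i => hxreg (congrFun h i)
      rw [bd] at hk ⊢
      split_ifs at hk ⊢ with h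
      swap
      · rw [Submodule.mem_bot] at hk ⊢
        exact hcancel (by rw [smul_smul, ← pow_succ', hk, smul_zero])
      obtain ⟨w, hw⟩ := hk
      have hw0 : A' j *ᵥ (q ∘ w) = 0 := by
        show (A (j + 1)).map q *ᵥ (q ∘ w) = 0
        rw [map_mulVec, show A (j + 1) *ᵥ w = x ^ (k + 1) • v from hw]
        funext i
        exact Ideal.Quotient.eq_zero_iff_mem.mpr (Ideal.mem_span_singleton.mpr
          (Dvd.intro _ (show x * (x ^ k * v i) = x ^ (k + 1) * v i by ring)))
      obtain ⟨y, hy, hwy⟩ : ∃ y, A (j + 1) *ᵥ y = 0 ∧ ∀ i, q (w i) = q (y i) := by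
        have h3 := hex j (by omega) (q ∘ w) hw0
        rw [bd] at h3
        split_ifs at h3 with h4
        · obtain ⟨u, hu⟩ := h3
          choose u' hu' using fun i => Ideal.Quotient.mk_surjective (u i)
          refine ⟨A (j + 1 + 1) *ᵥ u', ?_, fun i => ?_⟩
          · rw [Matrix.mulVec_mulVec, hA (j + 1) (by omega), Matrix.zero_mulVec]
          · have e1 : u = q ∘ u' := funext fun i => (hu' i).symm
            have e2 := congrFun hu i
            rw [Matrix.mulVecLin_apply, e1] at e2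
            exact ((congrFun (map_mulVec q (A (j + 1 + 1)) u') i).symm.trans e2).symm
        · exact ⟨0, Matrix.mulVec_zero _, fun i => by simpa using congrFun ((Submodule.mem_bot _).mp h3) i⟩
      choose w' hw' using fun i => Ideal.mem_span_singleton'.mp (Ideal.Quotient.eq.mp (hwy i))
      refine ⟨w', hcancel ?_⟩
      have e1 : w = y + x • w' := funext fun i => by
        show w i = y i + x * w' i
        rw [mul_comm, hw']
        ring
      rw [Matrix.mulVecLin_apply, smul_smul, ← pow_succ', ← hw, Matrix.mulVecLin_apply, e1, Matrix.mulVec_add, hy,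
        zero_add, Matrix.mulVec_smul]

section Loc

variable {R : Type u} [CommRing R]

theorem eq_top_atPrime {p : Ideal R} [p.IsPrime] {y : R} (hy : p = Submodule.colon (⊥ : Submodule R R) {y})
    (I : Ideal (Localization.AtPrime p)) (hI : I.annihilator = ⊥) : I = ⊤ := by
  by_contra hne
  have hle := IsLocalRing.le_maximalIdeal hne
  have hy0 : algebraMap R (Localization.AtPrime p) y ∈ I.annihilator := by
    rw [Submodule.mem_annihilator]
    intro z hz
    obtain ⟨⟨r, s⟩, hrs⟩ := IsLocalization.mk'_surjective p.primeCompl z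
    subst hrs
    have hr : r ∈ p := (IsLocalization.AtPrime.mk'_mem_maximal_iff (Localization.AtPrime p) p r s).mp (hle hz)
    rw [hy, Submodule.mem_colon_singleton, Submodule.mem_bot, smul_eq_mul] at hr
    rw [smul_eq_mul, IsLocalization.mul_mk'_eq_mk'_of_mul, mul_comm, hr, IsLocalization.mk'_zero]
  rw [hI, Submodule.mem_bot, IsLocalization.map_eq_zero_iff p.primeCompl] at hy0
  obtain ⟨⟨s, hs⟩, hsy⟩ := hy0
  refine hs ?_
  show s ∈ p
  rw [hy, Submodule.mem_colon_singleton, Submodule.mem_bot]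
  exact hsy

theorem ker_map_le (M : Submonoid R) (S : Type u) [CommRing S] [Algebra R S] [IsLocalization M S] {a b c : ℕ}
    (A : Matrix (Fin a) (Fin b) R) (B : Matrix (Fin b) (Fin c) R)
    (h : ∀ v, A *ᵥ v = 0 → v ∈ LinearMap.range B.mulVecLin) (v : Fin b → S)
    (hv : A.map (algebraMap R S) *ᵥ v = 0) : v ∈ LinearMap.range (B.map (algebraMap R S)).mulVecLin := by
  classical
  obtain ⟨s, hs⟩ := IsLocalization.exist_integer_multiples_of_finite M v
  choose w hw using hs
  have hw' : algebraMap R S ∘ w = algebraMap R S s • v := funext fun i => (hw i).trans (Algebra.smul_def _ _)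
  have h0 : ∀ i, ∃ t : M, (t : R) * (A *ᵥ w) i = 0 := fun i => by
    refine (IsLocalization.map_eq_zero_iff M S _).mp ?_
    have := congrFun (map_mulVec (algebraMap R S) A w) i
    rw [hw', Matrix.mulVec_smul, hv, smul_zero] at this
    exact this.symm
  choose t ht using h0
  let T : M := ∏ i, t i
  obtain ⟨z, hz⟩ : ((T : R) • w) ∈ LinearMap.range B.mulVecLin := h _ (funext fun i => by
    rw [Matrix.mulVec_smul]
    obtain ⟨d, hd⟩ : t i ∣ T := Finset.dvd_prod_of_mem t (Finset.mem_univ i)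
    show (T : R) * (A *ᵥ w) i = 0
    rw [hd, Submonoid.coe_mul, mul_comm (t i : R), mul_assoc, ht, mul_zero])
  obtain ⟨U, hU⟩ := IsLocalization.map_units S (T * s)
  refine ⟨(↑U⁻¹ : S) • (algebraMap R S ∘ z), ?_⟩
  rw [map_smul, Matrix.mulVecLin_apply, map_mulVec, show B *ᵥ z = (T : R) • w from hz]
  funext i
  show (↑U⁻¹ : S) * algebraMap R S ((T : R) * w i) = v i
  rw [map_mul, hw i, Algebra.smul_def, ← mul_assoc (algebraMap R S T), ← map_mul,
    ← Submonoid.coe_mul, ← hU, ← mul_assoc, Units.inv_mul, one_mul]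

theorem local_struct [IsLocalRing R] (hR : ∀ I : Ideal R, I.annihilator = ⊥ → I = ⊤) {e : ℕ} {n : ℕ → ℕ}
    {A : ∀ i, Matrix (Fin (n i)) (Fin (n (i + 1))) R} (hA : IsCx e A) (hex : Ex e A) :
    ∀ d j, j + d = e → ∃ σ : ℕ → ℕ, σ e = 0 ∧
      ∀ i, j ≤ i → i < e → σ i + σ (i + 1) = n (i + 1) ∧ Good (A i) (σ i) := by
  intro d
  induction d with
  | zero => exact fun j hj => ⟨fun _ => 0, rfl, fun i h1 h2 => absurd h1 (by omega)⟩
  | succ d ih =>
    intro j hj
    obtain ⟨σ, hσ0, hσ⟩ := ih (j + 1) (by omega)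
    have hstep : σ (j + 1) ≤ n (j + 1) ∧ Good (A j) (n (j + 1) - σ (j + 1)) := by
      by_cases h : j + 1 < e
      · have hg := (hσ (j + 1) le_rfl h).2
        refine ⟨hg.le, good_step hR (Nat.add_sub_cancel' hg.le) (A j) (A (j + 1)) (hA j (by omega)) (fun v hv => ?_) hg⟩
        have := hex j (by omega) v hv
        rwa [bd, if_pos h] at this
      · have e1 : σ (j + 1) = 0 := by rw [show j + 1 = e by omega]; exact hσ0
        rw [e1, Nat.sub_zero]
        refine ⟨Nat.zero_le _, good_step hR (Nat.zero_add _) (A j) (0 : Matrix (Fin (n (j + 1))) (Fin 0) R)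
          (Matrix.mul_zero _) (fun v hv => ?_) (good_zero _)⟩
        have := hex j (by omega) v hv
        rw [bd, if_neg h, Submodule.mem_bot] at this
        rw [this]
        exact zero_mem _
    refine ⟨Function.update σ j (n (j + 1) - σ (j + 1)), ?_, fun i h1 h2 => ?_⟩
    · rw [Function.update_of_ne (by omega : e ≠ j)]; exact hσ0
    · rcases h1.eq_or_lt with rfl | h3
      · rw [Function.update_self, Function.update_of_ne (by omega : j + 1 ≠ j)]
        exact ⟨Nat.sub_add_cancel hstep.1, hstep.2⟩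
      · rw [Function.update_of_ne (by omega : i ≠ j), Function.update_of_ne (by omega : i + 1 ≠ j)]
        exact hσ i h3 h2

theorem exists_rec_atPrime {p : Ideal R} [p.IsPrime] {y : R} (hy : p = Submodule.colon (⊥ : Submodule R R) {y})
    {e : ℕ} {n : ℕ → ℕ} {A : ∀ i, Matrix (Fin (n i)) (Fin (n (i + 1))) R} (hA : IsCx e A) (hex : Ex e A) :
    ∃ σ, Rec e n σ ∧ ∀ j < e, Good ((A j).map (algebraMap R (Localization.AtPrime p))) (σ j) := by
  let φ := algebraMap R (Localization.AtPrime p)
  have hA' : IsCx e (fun i => (A i).map φ) := fun i hi => by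
    show (A i).map φ * (A (i + 1)).map φ = 0
    rw [← Matrix.map_mul, hA i hi, Matrix.map_zero _ (map_zero _)]
  have hex' : Ex e (fun i => (A i).map φ) := fun j hj v hv => by
    by_cases h : j + 1 < e
    · rw [bd, if_pos h]
      exact ker_map_le p.primeCompl _ (A j) (A (j + 1)) (fun z hz => by
        have := hex j hj z hz
        rwa [bd, if_pos h] at this) v hv
    · rw [bd, if_neg h]
      have := ker_map_le p.primeCompl _ (A j) (0 : Matrix (Fin (n (j + 1))) (Fin 0) R) (fun z hz => by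
        have := hex j hj z hz
        rw [bd, if_neg h, Submodule.mem_bot] at this
        rw [this]; exact zero_mem _) v hv
      rwa [Matrix.map_zero _ (map_zero _), Matrix.mulVecLin_zero, LinearMap.range_zero] at this
  obtain ⟨σ, h1, h2⟩ := local_struct (eq_top_atPrime hy) hA' hex' e 0 (Nat.zero_add e)
  exact ⟨σ, ⟨h1, fun j hj => (h2 j (Nat.zero_le j) hj).1⟩, fun j hj => (h2 j (Nat.zero_le j) hj).2⟩

theorem exists_rec [IsNoetherianRing R] [Nontrivial R] {e : ℕ} {n : ℕ → ℕ}
    {A : ∀ i, Matrix (Fin (n i)) (Fin (n (i + 1))) R} (hA : IsCx e A) (hex : Ex e A) : ∃ σ, Rec e n σ := by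
  obtain ⟨p, hp⟩ := associatedPrimes.nonempty R R
  obtain ⟨hpp, y, hy⟩ := isAssociatedPrime_iff.1 hp
  haveI := hpp
  obtain ⟨σ, hσ, -⟩ := exists_rec_atPrime hy hA hex
  exact ⟨σ, hσ⟩

theorem generic_facts [IsNoetherianRing R] {e : ℕ} {n ρ : ℕ → ℕ}
    {A : ∀ i, Matrix (Fin (n i)) (Fin (n (i + 1))) R} (hA : IsCx e A) (hex : Ex e A) (hρ : Rec e n ρ) {j : ℕ}
    (hj : j < e) :
    CAlgX.minorIdeal (A j) (ρ j + 1) = ⊥ ∧ (CAlgX.minorIdeal (A j) (ρ j)).annihilator = ⊥ := by
  constructor
  all_goals rw [eq_bot_iff]; intro z hz; rw [Submodule.mem_bot]; by_contra hz0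
  all_goals obtain ⟨p, hp, hle⟩ := exists_le_isAssociatedPrime_of_isNoetherianRing R z hz0
  all_goals obtain ⟨hpp, y, hy⟩ := isAssociatedPrime_iff.1 hp; haveI := hpp
  all_goals obtain ⟨σ, hσ, hG⟩ := exists_rec_atPrime hy hA hex; have hgood := hG j hj
  all_goals rw [← hρ.eq hσ j hj.le] at hgood
  · have h0 := hgood.minorIdeal_succ
    rw [minorIdeal_map, Ideal.map_eq_bot_iff_le_ker] at h0
    obtain ⟨⟨s, hs⟩, hsz⟩ := (IsLocalization.map_eq_zero_iff p.primeCompl (Localization.AtPrime p) z).mp (h0 hz)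
    exact hs (hle (by rw [Submodule.mem_colon_singleton, Submodule.mem_bot]; exact hsz))
  · have h1 := hgood.minorIdeal_eq_top
    rw [minorIdeal_map] at h1
    have hJp : CAlgX.minorIdeal (A j) (ρ j) ≤ p := fun r hr => hle (by
      rw [Submodule.mem_colon_singleton, Submodule.mem_bot, smul_eq_mul, mul_comm]
      exact (Submodule.mem_annihilator.mp hz) r hr)
    have h2 : (CAlgX.minorIdeal (A j) (ρ j)).map (algebraMap R (Localization.AtPrime p)) ≤
        IsLocalRing.maximalIdeal _ := (Ideal.map_mono hJp).trans (by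
      rw [Localization.AtPrime.map_eq_maximalIdeal])
    exact (IsLocalRing.maximalIdeal.isMaximal (Localization.AtPrime p)).ne_top (top_le_iff.mp (h1.ge.trans h2))

end Loc

theorem depthCond_of_ex : ∀ (e : ℕ) (R : Type u) [CommRing R] [IsNoetherianRing R] (n ρ : ℕ → ℕ)
    (A : ∀ i, Matrix (Fin (n i)) (Fin (n (i + 1))) R), IsCx e A → Rec e n ρ → Ex e A → DepthCond e A ρ := by
  intro e
  induction e with
  | zero => exact fun R _ _ n ρ A _ _ _ j hj => absurd hj (Nat.not_lt_zero j)
  | succ e ih =>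
    intro R _ _ n ρ A hA hρ hex
    classical
    have hnzd : ∀ j, ∃ a, IsSMulRegular R a ∧ (j < e + 1 → a ∈ CAlgX.minorIdeal (A j) (ρ j)) := by
      intro j
      by_cases hj : j < e + 1
      swap
      · exact ⟨1, IsSMulRegular.one R, fun h => absurd h hj⟩
      obtain ⟨a, ha, hreg⟩ := McCoy3.exists_mem_nonZeroDivisors _ (generic_facts hA hex hρ hj).2
      exact ⟨a, fun u v huv => (mul_cancel_left_mem_nonZeroDivisors hreg).mp huv, fun _ => ha⟩
    choose a ha hma using hnzd
    let x := ∏ j ∈ Finset.range (e + 1), a j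
    have hx : ∀ j < e + 1, x ∈ CAlgX.minorIdeal (A j) (ρ j) := fun j hj =>
      Ideal.mem_of_dvd _ (Finset.dvd_prod_of_mem a (Finset.mem_range.mpr hj)) (hma j hj)
    have hxreg : IsSMulRegular R x :=
      Finset.prod_induction a (IsSMulRegular R) (fun _ _ => IsSMulRegular.mul) (IsSMulRegular.one R) fun j _ => ha j
    intro j hj
    cases j with
    | zero => exact Or.inr ⟨[x], rfl, by simpa using hx 0 hj, (isWeaklyRegular_singleton_iff R x).mpr hxreg⟩
    | succ j =>
      set q := Ideal.Quotient.mk (Ideal.span {x}) with hq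
      let A' : ∀ i, Matrix (Fin (n (i + 1))) (Fin (n (i + 1 + 1))) (R ⧸ Ideal.span {x}) := fun i => (A (i + 1)).map q
      have hA' : IsCx (n := fun i => n (i + 1)) e A' := fun i hi => by
        show (A (i + 1)).map q * (A (i + 1 + 1)).map q = 0
        rw [← Matrix.map_mul, hA (i + 1) (by omega), Matrix.map_zero _ (map_zero _)]
      have hex' : Ex (n := fun i => n (i + 1)) e A' := by
        intro i hi v hv
        choose v' hv' using fun l => Ideal.Quotient.mk_surjective (v l)
        have e1 : v = q ∘ v' := funext fun l => (hv' l).symm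
        change (A (i + 1)).map q *ᵥ v = 0 at hv
        rw [e1, map_mulVec] at hv
        choose u hu using fun l => Ideal.mem_span_singleton'.mp (Ideal.Quotient.eq_zero_iff_mem.mp (congrFun hv l))
        have hu' : A i *ᵥ u = 0 := by
          refine funext fun l => hxreg ?_
          have e2 : A i *ᵥ (x • u) = 0 := by
            rw [show x • u = A (i + 1) *ᵥ v' from funext fun l => (mul_comm x (u l)).trans (hu l),
              Matrix.mulVec_mulVec, hA i (by omega), Matrix.zero_mulVec]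
          rw [Matrix.mulVec_smul] at e2
          exact (congrFun e2 l).trans (mul_zero x).symm
        have h3 := hex i (by omega) u hu'
        rw [bd, if_pos (by omega : i + 1 < e + 1)] at h3
        obtain ⟨w, hw⟩ := h3
        have h4 := hex (i + 1) (by omega) (v' - x • w) (by
          rw [Matrix.mulVec_sub, Matrix.mulVec_smul, show A (i + 1) *ᵥ w = u from hw, sub_eq_zero]
          exact funext fun l => (hu l).symm.trans (mul_comm (u l) x))
        have e3 : v = q ∘ (v' - x • w) := e1.trans (funext fun l => Ideal.Quotient.eq.mpr (by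
          show v' l - (v' l - x * w l) ∈ Ideal.span {x}
          rw [sub_sub_cancel]
          exact Ideal.mul_mem_right _ _ (Ideal.mem_span_singleton_self x)))
        rw [bd] at h4 ⊢
        split_ifs at h4 ⊢ with h5 h6
        · obtain ⟨z, hz⟩ := h4
          exact ⟨q ∘ z, (map_mulVec q _ z).trans ((congrArg (q ∘ ·) hz).trans e3.symm)⟩
        · omega
        · omega
        · rw [Submodule.mem_bot] at h4 ⊢
          rw [e3, h4]
          funext l
          exact map_zero q
      obtain h | ⟨ts, hl, hm, hr⟩ :=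
        ih (R ⧸ Ideal.span {x}) (fun i => n (i + 1)) (fun i => ρ (i + 1)) A' hA' hρ.shift hex' j (by omega)
      · change CAlgX.minorIdeal ((A (j + 1)).map q) (ρ (j + 1)) = ⊤ at h
        rw [minorIdeal_map] at h
        exact Or.inl (eq_top_of_map_eq_top (hx (j + 1) hj) h)
      · change ∀ r ∈ ts, r ∈ CAlgX.minorIdeal ((A (j + 1)).map q) (ρ (j + 1)) at hm
        simp only [minorIdeal_map] at hm
        choose g hg hgq using fun r : {r // r ∈ ts} =>
          (Ideal.mem_map_iff_of_surjective q Ideal.Quotient.mk_surjective).mp (hm r.1 r.2)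
        refine Or.inr ⟨x :: ts.attach.map g, by simp [hl], ?_, (isWeaklyRegular_cons_iff R x _).mpr ⟨hxreg, ?_⟩⟩
        · intro r hr'
          rcases List.mem_cons.mp hr' with rfl | hr'
          · exact hx (j + 1) hj
          · obtain ⟨r', -, rfl⟩ := List.mem_map.mp hr'
            exact hg r'
        · rw [isWeaklyRegular_quot_iff, List.map_map, show (q ∘ g) = Subtype.val from funext hgq,
            List.attach_map_subtype_val]
          exact hr

end Groth.Agent.BE1
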