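import Groth.Agent.Lib.McCoy3.Basic
import Mathlib.LinearAlgebra.Matrix.NonsingularInverse
import Mathlib.Data.Matrix.ColumnRowPartitioned
import Mathlib.RingTheory.Ideal.Operations

/-!
Linear algebra of minors for the Buchsbaum–Eisenbud exactness criterion.
-/

set_option autoImplicit false

universe u

open scoped Matrix

namespace Groth.Agent.BE1

variable {R : Type u} [CommRing R]

theorem exists_compl {r s N : ℕ} (h : r + s = N) (g : Fin r → Fin N) (hg : Function.Injective g) :
    ∃ c : Fin s → Fin N, Function.Bijective (Sum.elim g c) := by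
  classical
  let T : Finset (Fin N) := (Finset.univ.image g)ᶜ
  have hT : T.card = s := by
    rw [Finset.card_compl, Finset.card_image_of_injective _ hg, Finset.card_univ, Fintype.card_fin, Fintype.card_fin]
    omega
  refine ⟨T.orderEmbOfFin hT, ?_⟩
  rw [Fintype.bijective_iff_injective_and_card, Fintype.card_sum, Fintype.card_fin, Fintype.card_fin, Fintype.card_fin]
  refine ⟨hg.sumElim (T.orderEmbOfFin hT).injective fun a b hab => ?_, h⟩
  have := Finset.orderEmbOfFin_mem T hT b
  rw [← hab] at this
  simp [T] at this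

theorem minorIdeal_map {S : Type u} [CommRing S] (φ : R →+* S) {m n : ℕ} (A : Matrix (Fin m) (Fin n) R) (r : ℕ) :
    CAlgX.minorIdeal (A.map φ) r = (CAlgX.minorIdeal A r).map φ := by
  rw [CAlgX.minorIdeal, CAlgX.minorIdeal, Ideal.map_span, ← Set.range_comp]
  congr 1
  refine congrArg Set.range (funext fun fg => ?_)
  rw [Function.comp_apply, RingHom.map_det, RingHom.mapMatrix_apply, Matrix.submatrix_map]

theorem minorIdeal_succ_le {m n : ℕ} (A : Matrix (Fin m) (Fin n) R) (r : ℕ) :
    CAlgX.minorIdeal A (r + 1) ≤ CAlgX.minorIdeal A r := by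
  rw [CAlgX.minorIdeal, Ideal.span_le]
  rintro _ ⟨⟨f, g⟩, rfl⟩
  show (A.submatrix f g).det ∈ CAlgX.minorIdeal A r
  rw [Matrix.det_succ_row_zero]
  refine Ideal.sum_mem _ fun j _ => Ideal.mul_mem_left _ _ ?_
  rw [Matrix.submatrix_submatrix]
  exact Ideal.subset_span ⟨(f ∘ Fin.succ, g ∘ j.succAbove), rfl⟩

theorem det_mul_eq_zero {r : ℕ} (X : Matrix (Fin (r + 1)) (Fin r) R) (Y : Matrix (Fin r) (Fin (r + 1)) R) :
    (X * Y).det = 0 := by
  let X' : Matrix (Fin (r + 1)) (Fin (r + 1)) R := Matrix.of fun i => Fin.snoc (X i) 0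
  let Y' : Matrix (Fin (r + 1)) (Fin (r + 1)) R := Matrix.of (Fin.snoc (fun l => Y l) 0)
  have h : X * Y = X' * Y' := by
    ext i j
    rw [Matrix.mul_apply, Matrix.mul_apply, Fin.sum_univ_castSucc]
    simp [X', Y']
  rw [h, Matrix.det_mul, Matrix.det_eq_zero_of_column_eq_zero (Fin.last r) (fun i => by simp [X']), zero_mul]

/-- `M` has a unit `r`-minor and its columns are combinations of the `r` columns of that minor. -/
def Good {m n : ℕ} (M : Matrix (Fin m) (Fin n) R) (r : ℕ) : Prop :=
  ∃ (f : Fin r → Fin m) (g : Fin r → Fin n) (π : Matrix (Fin r) (Fin n) R),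
    IsUnit (M.submatrix f g).det ∧ M = M.submatrix id g * π

theorem Good.le [Nontrivial R] {m n r : ℕ} {M : Matrix (Fin m) (Fin n) R} (h : Good M r) : r ≤ m := by
  obtain ⟨f, g, π, hu, -⟩ := h
  have hf : Function.Injective f := fun a b hab => by
    by_contra hne
    rw [Matrix.det_zero_of_row_eq hne (funext fun k => by simp [hab])] at hu
    exact not_isUnit_zero hu
  simpa using Fintype.card_le_of_injective f hf

theorem Good.minorIdeal_eq_top {m n r : ℕ} {M : Matrix (Fin m) (Fin n) R} (h : Good M r) :
    CAlgX.minorIdeal M r = ⊤ := by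
  obtain ⟨f, g, π, hu, -⟩ := h
  exact Ideal.eq_top_of_isUnit_mem _ (Ideal.subset_span ⟨(f, g), rfl⟩) hu

theorem Good.minorIdeal_succ {m n r : ℕ} {M : Matrix (Fin m) (Fin n) R} (h : Good M r) :
    CAlgX.minorIdeal M (r + 1) = ⊥ := by
  obtain ⟨f, g, π, -, hM⟩ := h
  rw [CAlgX.minorIdeal, Ideal.span_eq_bot]
  rintro _ ⟨⟨f', g'⟩, rfl⟩
  show (M.submatrix f' g').det = 0
  rw [hM, Matrix.submatrix_mul _ _ f' id g' Function.bijective_id]
  exact det_mul_eq_zero _ _

theorem good_zero {m : ℕ} (M : Matrix (Fin m) (Fin 0) R) : Good M 0 :=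
  ⟨Fin.elim0, Fin.elim0, 0, by rw [Matrix.det_fin_zero]; exact isUnit_one, Matrix.ext fun _ j => j.elim0⟩

theorem mulVec_submatrix_one {N r : ℕ} {m : ℕ} (A : Matrix (Fin m) (Fin N) R) (c : Fin r → Fin N) :
    A * (1 : Matrix (Fin N) (Fin N) R).submatrix id c = A.submatrix id c := by
  ext i j
  simp [Matrix.mul_apply, Matrix.one_apply]

theorem submatrix_one_mul {N r : ℕ} {p : ℕ} (B : Matrix (Fin N) (Fin p) R) (c : Fin r → Fin N) :
    (1 : Matrix (Fin N) (Fin N) R).submatrix c id * B = B.submatrix c id := by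
  ext i j
  simp [Matrix.mul_apply, Matrix.one_apply]

/-- Descending step: over a local ring in which proper ideals have nonzero annihilator, a matrix whose kernel
lies in the image of a good one is good, with complementary rank. -/
theorem good_step [IsLocalRing R] (hR : ∀ I : Ideal R, I.annihilator = ⊥ → I = ⊤) {m N p r s : ℕ}
    (hrs : s + r = N) (A : Matrix (Fin m) (Fin N) R) (B : Matrix (Fin N) (Fin p) R) (hAB : A * B = 0)
    (hex : ∀ v, A *ᵥ v = 0 → v ∈ LinearMap.range B.mulVecLin) (hB : Good B s) : Good A r := by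
  classical
  obtain ⟨h, k, π, hu, hBk⟩ := hB
  have hh : Function.Injective h := fun a b hab => by
    by_contra hne
    rw [Matrix.det_zero_of_row_eq hne (funext fun k => by simp [hab])] at hu
    exact not_isUnit_zero hu
  obtain ⟨c, hc⟩ := exists_compl hrs h hh
  have hci : Function.Injective c := fun a b e => Sum.inr_injective (hc.1 e)
  have hch : ∀ a b, c a ≠ h b := fun a b e => Sum.inr_ne_inl (hc.1 (a₁ := Sum.inr a) (a₂ := Sum.inl b) e)
  let I : Matrix (Fin N) (Fin N) R := 1
  let D := (B.submatrix h k)⁻¹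
  let σ : Matrix (Fin N) (Fin r) R := I.submatrix id c
  let P : Matrix (Fin r) (Fin N) R := I.submatrix c id - B.submatrix c k * D * I.submatrix h id
  have hσc : I.submatrix c c = 1 := Matrix.submatrix_one c hci
  have hσh : I.submatrix h c = 0 := by
    ext a b
    exact Matrix.one_apply_ne fun e => hch b a e.symm
  have hD : D * B.submatrix h k = 1 := Matrix.nonsing_inv_mul _ hu
  have hD' : B.submatrix h k * D = 1 := Matrix.mul_nonsing_inv _ hu
  have hPB : P * B = 0 := by
    have e1 : B.submatrix c id = B.submatrix c k * π := by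
      conv_lhs => rw [hBk]
      rw [Matrix.submatrix_mul _ _ c id id Function.bijective_id]
      rfl
    have e2 : B.submatrix h id = B.submatrix h k * π := by
      conv_lhs => rw [hBk]
      rw [Matrix.submatrix_mul _ _ h id id Function.bijective_id]
      rfl
    simp only [P, I]
    rw [Matrix.sub_mul, Matrix.mul_assoc, submatrix_one_mul, submatrix_one_mul, e1, e2, Matrix.mul_assoc,
      ← Matrix.mul_assoc D, hD, Matrix.one_mul, sub_self]
  have hPσ : P * σ = 1 := by
    simp only [P, σ, I]
    rw [Matrix.sub_mul, Matrix.mul_assoc, mulVec_submatrix_one, mulVec_submatrix_one, Matrix.submatrix_submatrix,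
      Matrix.submatrix_submatrix]
    simp only [Function.id_comp, Function.comp_id]
    rw [show (1 : Matrix (Fin N) (Fin N) R).submatrix c c = 1 from hσc,
      show (1 : Matrix (Fin N) (Fin N) R).submatrix h c = 0 from hσh, Matrix.mul_zero, sub_zero]
  have hsum : σ * P + B.submatrix id k * D * I.submatrix h id = 1 := by
    ext i j
    obtain ⟨x, rfl⟩ := hc.2 i
    cases x with
    | inl a =>
      have e : (σ * P + B.submatrix id k * D * I.submatrix h id).submatrix h id = I.submatrix h id := by
        rw [Matrix.submatrix_add, Pi.add_apply, Pi.add_apply, Matrix.submatrix_mul _ _ h id id Function.bijective_id,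
          Matrix.submatrix_mul _ _ h id id Function.bijective_id, Matrix.submatrix_mul _ _ h id id Function.bijective_id]
        simp only [σ, Matrix.submatrix_submatrix, Function.id_comp, Function.comp_id, Matrix.submatrix_id_id]
        rw [hσh, Matrix.zero_mul, zero_add, hD', Matrix.one_mul]
      exact congrFun (congrFun e a) j
    | inr a =>
      have e : (σ * P + B.submatrix id k * D * I.submatrix h id).submatrix c id = I.submatrix c id := by
        rw [Matrix.submatrix_add, Pi.add_apply, Pi.add_apply, Matrix.submatrix_mul _ _ c id id Function.bijective_id,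
          Matrix.submatrix_mul _ _ c id id Function.bijective_id, Matrix.submatrix_mul _ _ c id id Function.bijective_id]
        simp only [σ, Matrix.submatrix_submatrix, Function.id_comp, Function.comp_id, Matrix.submatrix_id_id]
        rw [hσc, Matrix.one_mul]
        exact sub_add_cancel _ _
      exact congrFun (congrFun e a) j
  have hA : A = A.submatrix id c * P := by
    have e : A * B.submatrix id k = 0 := by
      have e' := congrArg (fun M : Matrix (Fin m) (Fin p) R => M.submatrix id k) hAB
      simp only [Matrix.submatrix_mul _ _ id id k Function.bijective_id, Matrix.submatrix_id_id, Matrix.submatrix_zero,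
        Pi.zero_apply] at e'
      exact e'
    conv_lhs => rw [← Matrix.mul_one A, ← hsum]
    rw [Matrix.mul_add, ← Matrix.mul_assoc A (B.submatrix id k * D), ← Matrix.mul_assoc A (B.submatrix id k), e,
      Matrix.zero_mul, Matrix.zero_mul, add_zero, ← Matrix.mul_assoc]
    simp only [σ, I, mulVec_submatrix_one]
  have hinj : Function.Injective (A.submatrix id c).mulVecLin := by
    rw [injective_iff_map_eq_zero]
    intro y hy
    obtain ⟨w, hw⟩ := hex (σ *ᵥ y) (by
      rw [Matrix.mulVec_mulVec]
      simp only [σ, I, mulVec_submatrix_one]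
      exact hy)
    calc y = (P * σ) *ᵥ y := by rw [hPσ, Matrix.one_mulVec]
      _ = 0 := by rw [← Matrix.mulVec_mulVec, ← hw, Matrix.mulVecLin_apply, Matrix.mulVec_mulVec, hPB, Matrix.zero_mulVec]
  have htop := hR _ (McCoy3.annihilator_eq_bot_of_injective _ hinj)
  obtain ⟨f, g, hfg⟩ : ∃ (f : Fin r → Fin m) (g : Fin r → Fin r), IsUnit ((A.submatrix id c).submatrix f g).det := by
    by_contra hcon
    push Not at hcon
    refine (IsLocalRing.maximalIdeal.isMaximal R).ne_top (top_le_iff.mp (htop.ge.trans ?_))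
    rw [CAlgX.minorIdeal, Ideal.span_le]
    rintro _ ⟨⟨f, g⟩, rfl⟩
    exact hcon f g
  have hg : Function.Bijective g := Finite.injective_iff_bijective.mp fun a b hab => by
    by_contra hne
    rw [Matrix.det_zero_of_column_eq hne fun k => by simp [hab]] at hfg
    exact not_isUnit_zero hfg
  refine ⟨f, c ∘ g, P.submatrix g id, by rwa [Matrix.submatrix_submatrix, Function.id_comp] at hfg, ?_⟩
  conv_lhs => rw [hA]
  have := Matrix.submatrix_mul (A.submatrix id c) P (id : Fin m → Fin m) g (id : Fin N → Fin N) hg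
  rw [Matrix.submatrix_id_id, Matrix.submatrix_submatrix, Function.id_comp] at this
  exact this

/-- A product of a power of an `r`-minor of `A` with an `s`-minor of `B` kills the homology at the middle term. -/
theorem smul_mem_range {m N p r s : ℕ} (hrs : r + s = N) (A : Matrix (Fin m) (Fin N) R) (B : Matrix (Fin N) (Fin p) R)
    (hAB : A * B = 0) (f : Fin r → Fin m) (g : Fin r → Fin N) (h : Fin s → Fin N) (k : Fin s → Fin p)
    (v : Fin N → R) (hv : A *ᵥ v = 0) :
    ((A.submatrix f g).det ^ (s + 1) * (B.submatrix h k).det) • v ∈ LinearMap.range B.mulVecLin := by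
  classical
  by_cases hg : Function.Injective g
  swap
  · rw [McCoy3.mul_det_eq_zero_of_not_injective A f g hg, zero_pow (Nat.succ_ne_zero _), zero_mul, zero_smul]
    exact zero_mem _
  obtain ⟨c, hc⟩ := exists_compl hrs g hg
  let E := Equiv.ofBijective _ hc
  set M := A.submatrix f g with hM
  set a := M.det with ha
  set b := (B.submatrix h k).det with hb
  let T : Matrix (Fin N) (Fin s) R :=
    (Matrix.fromRows (-(M.adjugate * A.submatrix f c)) (a • (1 : Matrix (Fin s) (Fin s) R))).submatrix E.symm id
  have key : ∀ z : Fin N → R, A *ᵥ z = 0 → a • z = T *ᵥ (z ∘ c) := by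
    intro z hz
    funext i
    obtain ⟨x, rfl⟩ := E.surjective i
    cases x with
    | inl l =>
      have h1 : M *ᵥ (z ∘ g) + A.submatrix f c *ᵥ (z ∘ c) = 0 := by
        funext i
        refine Eq.trans ?_ (congrFun hz (f i))
        show (∑ l, A (f i) (g l) * z (g l)) + (∑ l, A (f i) (c l) * z (c l)) = ∑ j, A (f i) j * z j
        rw [← E.sum_comp, Fintype.sum_sum_type]
        rfl
      have h2 : a • (z ∘ g) = -(M.adjugate * A.submatrix f c) *ᵥ (z ∘ c) := by
        have := congrArg (M.adjugate *ᵥ ·) (eq_neg_of_add_eq_zero_left h1)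
        simp only [Matrix.mulVec_neg, Matrix.mulVec_mulVec, Matrix.adjugate_mul, Matrix.smul_mulVec,
          Matrix.one_mulVec] at this
        rw [Matrix.neg_mulVec]
        exact this
      have := congrFun h2 l
      refine this.trans ?_
      show _ = ∑ j, T (E (Sum.inl l)) j * _
      simp only [T, Matrix.submatrix_apply, Equiv.symm_apply_apply, Matrix.fromRows_apply_inl, id_eq]
      rfl
    | inr l =>
      show a * z (E (Sum.inr l)) = ∑ j, T (E (Sum.inr l)) j * z (c j)
      simp only [T, Matrix.submatrix_apply, Equiv.symm_apply_apply, Matrix.fromRows_apply_inr, id_eq,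
        Matrix.smul_apply, Matrix.one_apply, smul_eq_mul, mul_ite, mul_one, mul_zero, ite_mul, zero_mul,
        Finset.sum_ite_eq, Finset.mem_univ, if_true]
      rfl
  have hTB : a • B = T * B.submatrix c id := by
    refine Matrix.ext_of_mulVec_single fun j => ?_
    rw [Matrix.smul_mulVec, ← Matrix.mulVec_mulVec, key _ (by rw [Matrix.mulVec_mulVec, hAB, Matrix.zero_mulVec])]
    rfl
  set Q := B.submatrix c k with hQ
  have hdet : a ^ s * b = (T.submatrix h id).det * Q.det := by
    have e := congrArg (fun X : Matrix (Fin N) (Fin p) R => (X.submatrix h k).det) hTB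
    simp only [Matrix.submatrix_mul _ _ h id k Function.bijective_id, Matrix.submatrix_submatrix,
      Function.comp_id, Function.id_comp, Matrix.det_mul] at e
    rw [← e, Matrix.submatrix_smul, Pi.smul_apply, Pi.smul_apply, Matrix.det_smul, Fintype.card_fin]
  let u := (T.submatrix h id).det • (Q.adjugate *ᵥ (v ∘ c))
  let w := (1 : Matrix (Fin p) (Fin p) R).submatrix id k *ᵥ u
  have hw : ∀ i, (B *ᵥ w) i = (B.submatrix id k *ᵥ u) i := fun i => by
    simp only [w, Matrix.mulVec_mulVec, mulVec_submatrix_one]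
  let v' := (a ^ s * b) • v - B *ᵥ w
  have hv' : a • v' = 0 := by
    rw [key v' (by simp only [v', Matrix.mulVec_sub, Matrix.mulVec_smul, hv, smul_zero, Matrix.mulVec_mulVec, hAB,
      Matrix.zero_mulVec, sub_zero])]
    have hc0 : v' ∘ c = 0 := by
      funext l
      have : (Q *ᵥ u) l = (a ^ s * b) * v (c l) := by
        simp only [u, Matrix.mulVec_smul, Matrix.mulVec_mulVec, Matrix.mul_adjugate, Matrix.smul_mulVec,
          Matrix.one_mulVec, smul_smul, ← hdet]
        rfl
      show (a ^ s * b) * v (c l) - (B *ᵥ w) (c l) = 0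
      rw [hw, ← this]
      exact sub_self _
    rw [hc0, Matrix.mulVec_zero]
  refine ⟨a • w, ?_⟩
  rw [map_smul, Matrix.mulVecLin_apply]
  rw [smul_sub, sub_eq_zero, smul_smul] at hv'
  rw [← hv', ← mul_assoc, ← pow_succ']

theorem exists_pow_smul_mem_range {m N p r s : ℕ} (hrs : r + s = N) (A : Matrix (Fin m) (Fin N) R)
    (B : Matrix (Fin N) (Fin p) R) (hAB : A * B = 0) {x : R} (hxA : x ∈ CAlgX.minorIdeal A r)
    (hxB : x ∈ CAlgX.minorIdeal B s) (v : Fin N → R) (hv : A *ᵥ v = 0) :
    ∃ k : ℕ, x ^ k • v ∈ LinearMap.range B.mulVecLin := by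
  let S : Ideal R := (LinearMap.range B.mulVecLin).comap (LinearMap.toSpanSingleton R _ v)
  have hle : CAlgX.minorIdeal A r * CAlgX.minorIdeal B s ≤ S.radical := by
    rw [CAlgX.minorIdeal, CAlgX.minorIdeal, Ideal.span_mul_span', Ideal.span_le]
    rintro _ ⟨_, ⟨⟨f, g⟩, rfl⟩, _, ⟨⟨h, k⟩, rfl⟩, rfl⟩
    refine ⟨s + 1, ?_⟩
    show ((A.submatrix f g).det * (B.submatrix h k).det) ^ (s + 1) • v ∈ LinearMap.range B.mulVecLin
    rw [show ((A.submatrix f g).det * (B.submatrix h k).det) ^ (s + 1) =
      (B.submatrix h k).det ^ s * ((A.submatrix f g).det ^ (s + 1) * (B.submatrix h k).det) by ring, mul_smul]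
    exact Submodule.smul_mem _ _ (smul_mem_range hrs A B hAB f g h k v hv)
  obtain ⟨k, hk⟩ := hle (Ideal.mul_mem_mul hxA hxB)
  refine ⟨2 * k, ?_⟩
  rw [pow_mul, sq]
  exact hk

end Groth.Agent.BE1
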