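import Groth.Agent.Lib.BE1.Exact

/-!
Exactness of a complex which is exact on the punctured spectrum.
-/

set_option autoImplicit false
set_option linter.style.haveILetI false

universe u

open scoped Matrix Pointwise
open RingTheory.Sequence

namespace Groth.Agent.BE1

theorem exists_smul_mem_range_of_map {R : Type u} [CommRing R] (M : Submonoid R) (S : Type u) [CommRing S] [Algebra R S]
    [IsLocalization M S] {b c : ℕ} (B : Matrix (Fin b) (Fin c) R) (v : Fin b → R)
    (h : algebraMap R S ∘ v ∈ LinearMap.range (B.map (algebraMap R S)).mulVecLin) :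
    ∃ t ∈ M, t • v ∈ LinearMap.range B.mulVecLin := by
  classical
  obtain ⟨z, hz⟩ := h
  obtain ⟨s, hs⟩ := IsLocalization.exist_integer_multiples_of_finite M z
  choose w hw using hs
  have hw' : algebraMap R S ∘ w = algebraMap R S s • z := funext fun i => (hw i).trans (Algebra.smul_def _ _)
  have h0 : ∀ i, ∃ t : M, (t : R) * (B *ᵥ w) i = (t : R) * ((s : R) * v i) := fun i => by
    refine (IsLocalization.eq_iff_exists M S).mp ?_
    have := congrFun (map_mulVec (algebraMap R S) B w) i
    rw [hw', Matrix.mulVec_smul, ← Matrix.mulVecLin_apply, hz] at this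
    rw [map_mul]
    exact this.symm
  choose t ht using h0
  let T : M := ∏ i, t i
  refine ⟨(T : R) * s, mul_mem T.2 s.2, (T : R) • w, ?_⟩
  rw [map_smul, Matrix.mulVecLin_apply]
  funext i
  obtain ⟨d, hd⟩ : t i ∣ T := Finset.dvd_prod_of_mem t (Finset.mem_univ i)
  show (T : R) * (B *ᵥ w) i = (T : R) * s * v i
  rw [hd, Submonoid.coe_mul, mul_comm (t i : R), mul_assoc, ht, ← mul_assoc, ← mul_assoc, mul_assoc ((d : R) * t i)]

/-- Exactness on the punctured spectrum. -/
def Punct {R : Type u} [CommRing R] [IsLocalRing R] (e : ℕ) {n : ℕ → ℕ}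
    (A : ∀ i, Matrix (Fin (n i)) (Fin (n (i + 1))) R) : Prop :=
  ∀ (p : Ideal R) [p.IsPrime], p ≠ IsLocalRing.maximalIdeal R → ∀ j < e, ∀ v, A j *ᵥ v = 0 →
    ∃ c ∉ p, c • v ∈ bd e A j

theorem ex_of_punct : ∀ (e : ℕ) (R : Type u) [CommRing R] [IsLocalRing R] [IsNoetherianRing R] (n : ℕ → ℕ)
    (A : ∀ i, Matrix (Fin (n i)) (Fin (n (i + 1))) R), IsCx e A → Punct e A → ∀ rs : List R, e ≤ rs.length →
    (∀ r ∈ rs, r ∈ IsLocalRing.maximalIdeal R) → IsWeaklyRegular R rs → Ex e A := by
  intro e
  induction e with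
  | zero => exact fun R _ _ _ n A _ _ _ _ _ _ j hj => absurd hj (Nat.not_lt_zero j)
  | succ e ih =>
    intro R _ _ _ n A hA hP rs hlen hmem hreg
    obtain ⟨x, ts, rfl⟩ : ∃ x ts, rs = x :: ts := by
      cases rs with
      | nil => simp at hlen
      | cons x ts => exact ⟨x, ts, rfl⟩
    rw [isWeaklyRegular_cons_iff] at hreg
    obtain ⟨hxreg, hts⟩ := hreg
    have hx : x ∈ IsLocalRing.maximalIdeal R := hmem x List.mem_cons_self
    set q := Ideal.Quotient.mk (Ideal.span {x}) with hq
    haveI : Nontrivial (R ⧸ Ideal.span {x}) := Ideal.Quotient.nontrivial_iff.mpr fun h =>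
      (IsLocalRing.maximalIdeal.isMaximal R).ne_top (top_le_iff.mp (h.ge.trans ((Ideal.span_singleton_le_iff_mem _).mpr hx)))
    haveI : IsLocalRing (R ⧸ Ideal.span {x}) := .of_surjective' q Ideal.Quotient.mk_surjective
    have hqm : (IsLocalRing.maximalIdeal (R ⧸ Ideal.span {x})).comap q = IsLocalRing.maximalIdeal R := by
      refine IsLocalRing.eq_maximalIdeal (Ideal.comap_isMaximal_of_surjective q Ideal.Quotient.mk_surjective)
    let A' : ∀ i, Matrix (Fin (n (i + 1))) (Fin (n (i + 1 + 1))) (R ⧸ Ideal.span {x}) := fun i => (A (i + 1)).map q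
    have hA' : IsCx (n := fun i => n (i + 1)) e A' := fun i hi => by
      show (A (i + 1)).map q * (A (i + 1 + 1)).map q = 0
      rw [← Matrix.map_mul, hA (i + 1) (by omega), Matrix.map_zero _ (map_zero _)]
    have hP' : Punct (n := fun i => n (i + 1)) e A' := by
      intro p _ hp i hi v hv
      let P := p.comap q
      have hPm : P ≠ IsLocalRing.maximalIdeal R := fun h =>
        hp (Ideal.comap_injective_of_surjective q Ideal.Quotient.mk_surjective (h.trans hqm.symm))
      choose v' hv' using fun l => Ideal.Quotient.mk_surjective (v l)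
      have e1 : v = q ∘ v' := funext fun l => (hv' l).symm
      change (A (i + 1)).map q *ᵥ v = 0 at hv
      rw [e1, map_mulVec] at hv
      choose u hu using fun l => Ideal.mem_span_singleton'.mp (Ideal.Quotient.eq_zero_iff_mem.mp (congrFun hv l))
      have hu' : A i *ᵥ u = 0 := by
        refine funext fun l => hxreg ?_
        have e2 : A i *ᵥ (x • u) = 0 := by
          rw [show x • u = A (i + 1) *ᵥ v' from funext fun l => (mul_comm x (u l)).trans (hu l),
            Matrix.mulVec_mulVec, hA i (by omega), Matrix.zero_mulVec]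
        rw [Matrix.mulVec_smul] at e2
        exact (congrFun e2 l).trans (mul_zero x).symm
      obtain ⟨c, hc, h3⟩ := hP P hPm i (by omega) u hu'
      rw [bd, if_pos (by omega : i + 1 < e + 1)] at h3
      obtain ⟨w, hw⟩ := h3
      obtain ⟨c', hc', h4⟩ := hP P hPm (i + 1) (by omega) (c • v' - x • w) (by
        rw [Matrix.mulVec_sub, Matrix.mulVec_smul, Matrix.mulVec_smul, show A (i + 1) *ᵥ w = c • u from hw, sub_eq_zero]
        funext l
        show c * (A (i + 1) *ᵥ v') l = x * (c * u l)
        rw [← hu l]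
        ring)
      refine ⟨q (c' * c), fun h => ((inferInstance : P.IsPrime).mem_or_mem (x := c') (y := c) h).elim hc' hc, ?_⟩
      have e3 : q (c' * c) • v = q ∘ (c' • (c • v' - x • w)) := funext fun l => by
        rw [e1]
        show q (c' * c) * q (v' l) = q (c' * (c * v' l - x * w l))
        rw [← map_mul, hq, Ideal.Quotient.eq, show c' * c * v' l - c' * (c * v' l - x * w l) = x * (c' * w l) by ring]
        exact Ideal.mul_mem_right _ _ (Ideal.mem_span_singleton_self x)
      rw [e3]
      rw [bd] at h4 ⊢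
      split_ifs at h4 ⊢ with h5 h6
      · obtain ⟨z, hz⟩ := h4
        exact ⟨q ∘ z, (map_mulVec q _ z).trans (congrArg (q ∘ ·) hz)⟩
      · omega
      · omega
      · rw [Submodule.mem_bot] at h4 ⊢
        rw [h4]
        funext l
        exact map_zero q
    have hex := ih (R ⧸ Ideal.span {x}) (fun i => n (i + 1)) A' hA' hP' (ts.map q)
      (by simp only [List.length_map, List.length_cons] at hlen ⊢; omega)
      (fun r hr => by
        obtain ⟨t, ht, rfl⟩ := List.mem_map.mp hr
        exact hqm.ge (hmem t (List.mem_cons_of_mem x ht)))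
      ((isWeaklyRegular_quot_iff x ts).mp hts)
    intro j hj v hv
    obtain ⟨k, hk⟩ : ∃ k : ℕ, x ^ k • v ∈ bd (e + 1) A j := by
      let S : Ideal R := (bd (e + 1) A j).comap (LinearMap.toSpanSingleton R _ v)
      have hS : x ∈ S.radical := by
        rw [Ideal.radical_eq_sInf, Submodule.mem_sInf]
        rintro p ⟨hSp, hp⟩
        by_cases hpm : p = IsLocalRing.maximalIdeal R
        · exact hpm ▸ hx
        · obtain ⟨c, hc, h⟩ := hP p hpm j hj v hv
          exact absurd (hSp h) hc
      exact hS
    clear hv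
    induction k with
    | zero => simpa using hk
    | succ k ihk =>
      refine ihk ?_
      have hcancel : ∀ {a b : Fin (n (j + 1)) → R}, x • a = x • b → a = b := fun h =>
        funext fun i => hxreg (congrFun h i)
      rw [bd] at hk ⊢
      split_ifs at hk ⊢ with h
      swap
      · rw [Submodule.mem_bot] at hk ⊢
        exact hcancel (by rw [smul_smul, ← pow_succ', hk, smul_zero])
      obtain ⟨w, hw⟩ := hk
      have hw0 : A' j *ᵥ (q ∘ w) = 0 := by
        show (A (j + 1)).map q *ᵥ (q ∘ w) = 0
        rw [map_mulVec, show A (j + 1) *ᵥ w = x ^ (k + 1) • v from hw]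
        funext i
        exact Ideal.Quotient.eq_zero_iff_mem.mpr (Ideal.mem_span_singleton.mpr
          (Dvd.intro _ (show x * (x ^ k * v i) = x ^ (k + 1) * v i by ring)))
      obtain ⟨y, hy, hwy⟩ : ∃ y, A (j + 1) *ᵥ y = 0 ∧ ∀ i, q (w i) = q (y i) := by
        have h3 := hex j (by omega) (q ∘ w) hw0
        rw [bd] at h3
        split_ifs at h3 with h4
        · obtain ⟨u, hu⟩ := h3
          choose u' hu' using fun i => Ideal.Quotient.mk_surjective (u i)
          refine ⟨A (j + 1 + 1) *ᵥ u', ?_, fun i => ?_⟩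
          · rw [Matrix.mulVec_mulVec, hA (j + 1) (by omega), Matrix.zero_mulVec]
          · have e1 : u = q ∘ u' := funext fun i => (hu' i).symm
            have e2 := congrFun hu i
            rw [Matrix.mulVecLin_apply, e1] at e2
            exact ((congrFun (map_mulVec q (A (j + 1 + 1)) u') i).symm.trans e2).symm
        · exact ⟨0, Matrix.mulVec_zero _, fun i => by simpa using congrFun ((Submodule.mem_bot _).mp h3) i⟩
      choose w' hw' using fun i => Ideal.mem_span_singleton'.mp (Ideal.Quotient.eq.mp (hwy i))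
      refine ⟨w', hcancel ?_⟩
      have e1 : w = y + x • w' := funext fun i => by
        show w i = y i + x * w' i
        rw [mul_comm, hw']
        ring
      rw [Matrix.mulVecLin_apply, smul_smul, ← pow_succ', ← hw, Matrix.mulVecLin_apply, e1, Matrix.mulVec_add, hy,
        zero_add, Matrix.mulVec_smul]

theorem result_of_ex {R : Type u} [CommRing R] {e : ℕ} (he : 1 ≤ e) {n : ℕ → ℕ}
    {A : ∀ i, Matrix (Fin (n i)) (Fin (n (i + 1))) R} (hA : IsCx e A) (hEx : Ex e A) :
    LinearMap.ker (A (e - 1)).mulVecLin = ⊥ ∧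
      ∀ i, i + 2 ≤ e → LinearMap.ker (A i).mulVecLin = LinearMap.range (A (i + 1)).mulVecLin := by
  refine ⟨?_, fun i hi => le_antisymm (fun v hv => ?_) ?_⟩
  · rw [LinearMap.ker_eq_bot']
    intro v hv
    have := hEx (e - 1) (by omega) v hv
    rwa [bd, if_neg (by omega), Submodule.mem_bot] at this
  · have := hEx i (by omega) v hv
    rwa [bd, if_pos (by omega)] at this
  · rintro _ ⟨w, rfl⟩
    rw [LinearMap.mem_ker, Matrix.mulVecLin_apply, Matrix.mulVecLin_apply, Matrix.mulVec_mulVec, hA i hi,
      Matrix.zero_mulVec]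

end Groth.Agent.BE1
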